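import Groth.Agent.H4Segre.Sop
import Groth.Agent.H4KS.Adapter
import Mathlib.FieldTheory.IsAlgClosed.Basic
import Mathlib.GroupTheory.Archimedean
import Mathlib.Algebra.BigOperators.Field
import Mathlib.RingTheory.Localization.FractionRing
import Mathlib.Algebra.Polynomial.Basic
import Mathlib.Algebra.MonoidAlgebra.Basic

/-!
# One dimensional graded domains over algebraically closed fields
-/

set_option autoImplicit false
set_option linter.unusedSectionVars false
set_option linter.style.haveILetI false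

universe u

open DirectSum

namespace Groth.Agent.H4DimOne

variable {k : Type u} [Field k] {R : Type u} [CommRing R] [IsDomain R] [Algebra k R] {𝒜 : ℤ → Submodule k R}
  [GradedAlgebra 𝒜]

/-- An algebra with a homogeneous multiplicative basis indexed by a monoid. -/
theorem bijective_lift {M : Type} [AddCommMonoid M] (deg : M →+ ℤ) (hdeg : Function.Injective deg)
    (e : Multiplicative M →* R) (he : ∀ i, e (Multiplicative.ofAdd i) ∈ 𝒜 (deg i))
    (he0 : ∀ i, e (Multiplicative.ofAdd i) ≠ 0)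
    (hspan : ∀ (n : ℤ) (v : R), v ∈ 𝒜 n → v ≠ 0 → ∃ i, deg i = n ∧ ∃ c : k, v = c • e (Multiplicative.ofAdd i)) :
    Function.Bijective (AddMonoidAlgebra.lift k R M e) := by
  classical
  refine ⟨(injective_iff_map_eq_zero _).2 fun p hp => ?_, fun r => ?_⟩
  · refine AddMonoidAlgebra.ext (Finsupp.ext fun i => ?_)
    have h := congrArg (H4Gr.proj (H4KS.addGr 𝒜) (deg i)) hp
    rw [AddMonoidAlgebra.lift_apply, Finsupp.sum, map_sum, map_zero] at h
    have hterm : ∀ j : M, H4Gr.proj (H4KS.addGr 𝒜) (deg i) (p.coeff j • e (Multiplicative.ofAdd j)) =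
        if j = i then p.coeff j • e (Multiplicative.ofAdd j) else 0 := fun j => by
      rw [H4Gr.proj_of_mem (show p.coeff j • e (Multiplicative.ofAdd j) ∈ H4KS.addGr 𝒜 (deg j) from
        Submodule.smul_mem _ _ (he j))]
      simp only [hdeg.eq_iff]
    simp only [hterm, Finset.sum_ite_eq'] at h
    rw [AddMonoidAlgebra.coeff_zero, Finsupp.zero_apply]
    split_ifs at h with hi
    · exact (smul_eq_zero.1 h).resolve_right (he0 i)
    · exact Finsupp.notMem_support_iff.1 hi
  · induction r using H4Gr.induction (H4KS.addGr 𝒜) with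
    | zero => exact ⟨0, map_zero _⟩
    | add a b ha hb =>
      obtain ⟨p, rfl⟩ := ha; obtain ⟨q, rfl⟩ := hb
      exact ⟨p + q, map_add _ _ _⟩
    | hom n v hv =>
      rcases eq_or_ne v 0 with rfl | hv0
      · exact ⟨0, map_zero _⟩
      obtain ⟨i, -, c, rfl⟩ := hspan n v hv hv0
      exact ⟨AddMonoidAlgebra.single i c, by rw [AddMonoidAlgebra.lift_single]⟩

variable [IsAlgClosed k] [Algebra.FiniteType k R]
  (hpos : ∀ n : ℤ, n < 0 → 𝒜 n = ⊥) (h0 : 𝒜 0 = Submodule.span k {(1 : R)}) (h1 : ringKrullDim R = 1)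

include hpos h0 h1 in
/-- The pieces are at most lines. -/
theorem exists_smul_eq {n : ℤ} {x y : R} (hx : x ∈ 𝒜 n) (hx0 : x ≠ 0) (hy : y ∈ 𝒜 n) : ∃ c : k, y = c • x := by
  classical
  rcases H4Segre.eq_zero_or_nonneg 𝒜 hpos hx with h | hn
  · exact absurd h hx0
  rcases hn.eq_or_lt with rfl | hn
  · obtain ⟨a, rfl⟩ := Submodule.mem_span_singleton.1 (h0.le hx)
    obtain ⟨b, rfl⟩ := Submodule.mem_span_singleton.1 (h0.le hy)
    refine ⟨b / a, ?_⟩
    rw [smul_smul, div_mul_cancel₀ b (fun e => hx0 (by rw [e, zero_smul]))]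
  obtain ⟨m, rfl⟩ : ∃ m : ℕ, n = m := ⟨n.toNat, (Int.toNat_of_nonneg hn.le).symm⟩
  have hm : 0 < m := by exact_mod_cast hn
  obtain ⟨d, hd, h⟩ := H4Segre.exists_sop 𝒜 hpos h0 1 ⊥ (Ideal.IsHomogeneous.bot 𝒜) bot_ne_top
    (le_of_eq ((ringKrullDim_eq_of_ringEquiv (RingEquiv.quotientBot R)).trans h1))
  obtain ⟨f, hf, hfin⟩ := h 1 one_pos
  let g : MvPolynomial (Fin 1) k →ₐ[k] R := MvPolynomial.aeval f
  have hgfin : g.toRingHom.Finite := by
    have h2 := (RingHom.Finite.of_surjective (RingEquiv.quotientBot R).toRingHom (RingEquiv.quotientBot R).surjective).comp hfin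
    exact h2
  -- the polynomials in `f 0` have homogeneous parts `c • f 0 ^ j`
  have hpow : ∀ j : ℕ, f 0 ^ j ∈ 𝒜 ((d * j : ℕ) : ℤ) := fun j => by
    have := SetLike.pow_mem_graded j (hf 0)
    rwa [nsmul_eq_mul, mul_one, ← Nat.cast_mul, mul_comm] at this
  have hpart : ∀ (p : MvPolynomial (Fin 1) k) (j : ℕ),
      ∃ c : k, H4Gr.proj (H4KS.addGr 𝒜) ((d * j : ℕ) : ℤ) (g p) = c • f 0 ^ j := fun p j => by
    induction p using MvPolynomial.induction_on' with
    | monomial u a =>
      have hu : g (MvPolynomial.monomial u a) = a • f 0 ^ u 0 := by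
        rw [MvPolynomial.aeval_monomial, Algebra.smul_def, Finsupp.prod_fintype _ _ (fun _ => pow_zero _), Fin.prod_univ_one]
      rw [hu, H4Gr.proj_of_mem (show a • f 0 ^ u 0 ∈ H4KS.addGr 𝒜 ((d * u 0 : ℕ) : ℤ) from
        Submodule.smul_mem _ _ (hpow _))]
      split_ifs with he
      · refine ⟨a, ?_⟩
        rw [Nat.cast_inj] at he
        rw [Nat.eq_of_mul_eq_mul_left hd he]
      · exact ⟨0, (zero_smul _ _).symm⟩
    | add p q hp hq =>
      obtain ⟨c, hc⟩ := hp; obtain ⟨c', hc'⟩ := hq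
      exact ⟨c + c', by rw [map_add, map_add, hc, hc', add_smul]⟩
  let L := FractionRing R
  let ι : R →ₐ[k] L := IsScalarTower.toAlgHom k R L
  have hι : Function.Injective ι := IsFractionRing.injective R L
  have hf0 : f 0 ≠ 0 := fun hz => by
    have hsurj : ∀ p, g p = algebraMap k R (MvPolynomial.constantCoeff p) := fun p => by
      induction p using MvPolynomial.induction_on with
      | C a => simp [g]
      | add p q hp hq => rw [map_add, map_add, map_add, hp, hq]
      | mul_X p i hp =>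
        obtain rfl : i = 0 := Subsingleton.elim _ _
        simp [g, hz]
    have hfk : (algebraMap k R).Finite := by
      have : g.toRingHom = (algebraMap k R).comp MvPolynomial.constantCoeff := RingHom.ext hsurj
      exact RingHom.Finite.of_comp_finite (this ▸ hgfin)
    haveI : Module.Finite k R := RingHom.finite_algebraMap.1 hfk
    haveI : IsArtinianRing R := IsArtinianRing.of_finite k R
    have h : ringKrullDim R ≤ (0 : ℕ) := (inferInstance : Ring.KrullDimLE 0 R).1
    rw [h1] at h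
    exact absurd h (by norm_cast)
  -- the degree zero fraction built from `v` and `f 0` is integral over `k`
  have hint : ∀ v ∈ 𝒜 (m : ℤ), IsIntegral k (ι v ^ d / ι (f 0) ^ m) := fun v hv => by
    obtain ⟨P, hP, hPv⟩ := hgfin.to_isIntegral (v ^ d)
    let N := P.natDegree
    have hvd : v ^ d ∈ 𝒜 ((d * m : ℕ) : ℤ) := by
      have := SetLike.pow_mem_graded d hv
      rwa [nsmul_eq_mul, ← Nat.cast_mul] at this
    choose c hc using hpart
    have hterm : ∀ i, H4Gr.proj (H4KS.addGr 𝒜) ((d * (m * N) : ℕ) : ℤ) (g (P.coeff i) * (v ^ d) ^ i) =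
        if i ≤ N then c (P.coeff i) (m * (N - i)) • (f 0 ^ (m * (N - i)) * (v ^ d) ^ i)
        else H4Gr.proj (H4KS.addGr 𝒜) ((d * (m * N) : ℕ) : ℤ) (g (P.coeff i) * (v ^ d) ^ i) := fun i => by
      split_ifs with hi
      · have hvi : (v ^ d) ^ i ∈ H4KS.addGr 𝒜 ((d * (m * i) : ℕ) : ℤ) := by
          have := SetLike.pow_mem_graded i hvd
          rw [nsmul_eq_mul, ← Nat.cast_mul, show i * (d * m) = d * (m * i) by ring] at this
          exact this
        have h := H4Gr.proj_smul (𝒜 := H4KS.addGr 𝒜) (ℳ := H4KS.addGr 𝒜) hvi ((d * (m * N) : ℕ) : ℤ) (g (P.coeff i))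
        rw [smul_eq_mul, smul_eq_mul, mul_comm ((v ^ d) ^ i) (g _),
          show ((d * (m * N) : ℕ) : ℤ) - ((d * (m * i) : ℕ) : ℤ) = ((d * (m * (N - i)) : ℕ) : ℤ) by
            rw [Nat.mul_sub, Nat.mul_sub, Nat.cast_sub (Nat.mul_le_mul_left d (Nat.mul_le_mul_left m hi))],
          hc, mul_smul_comm, mul_comm _ (f 0 ^ _)] at h
        exact h
      · rfl
    let Q : Polynomial k := ∑ i ∈ Finset.range (N + 1), Polynomial.monomial i (if i = N then 1 else c (P.coeff i) (m * (N - i)))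
    refine ⟨Q, ?_, ?_⟩
    · refine Polynomial.monic_of_natDegree_le_of_coeff_eq_one N ?_ ?_
      · refine Polynomial.natDegree_sum_le_of_forall_le _ _ fun i hi => (Polynomial.natDegree_monomial_le _).trans ?_
        exact Finset.mem_range_succ_iff.1 hi
      · simp [Q, Polynomial.coeff_monomial]
    · have hsum := congrArg (H4Gr.proj (H4KS.addGr 𝒜) ((d * (m * N) : ℕ) : ℤ)) hPv
      rw [Polynomial.eval₂_eq_sum_range, map_sum, map_zero] at hsum
      have hsum' : ∑ i ∈ Finset.range (N + 1),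
          (if i = N then (1 : k) else c (P.coeff i) (m * (N - i))) • (f 0 ^ (m * (N - i)) * (v ^ d) ^ i) = 0 := by
        rw [← hsum]
        refine Finset.sum_congr rfl fun i hi => ?_
        have hiN := Finset.mem_range_succ_iff.1 hi
        show _ = H4Gr.proj (H4KS.addGr 𝒜) ((d * (m * N) : ℕ) : ℤ) (g (P.coeff i) * (v ^ d) ^ i)
        rw [hterm, if_pos hiN]
        split_ifs with he
        · subst he
          rw [Nat.sub_self, mul_zero, pow_zero, one_smul, one_mul]
          have h := hterm N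
          rw [if_pos le_rfl, show P.coeff N = 1 from hP.coeff_natDegree, map_one, one_mul, Nat.sub_self, mul_zero,
            pow_zero, one_mul] at h
          rw [show P.coeff N = 1 from hP.coeff_natDegree, ← h]
          refine (H4Gr.proj_same ?_).symm
          have h2 := SetLike.pow_mem_graded N hvd
          rw [nsmul_eq_mul, ← Nat.cast_mul, show N * (d * m) = d * (m * N) by ring] at h2
          exact h2
        · rfl
      have hι0 : ι (f 0) ≠ 0 := fun e => hf0 (hι (e.trans (map_zero ι).symm))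
      have h2 := congrArg (fun z => ι z * (ι (f 0) ^ (m * N))⁻¹) hsum'
      simp only [map_zero, zero_mul, map_sum] at h2
      have h3 := (Finset.sum_mul (R := L) (Finset.range (N + 1))
        (fun x => ι ((if x = N then (1 : k) else c (P.coeff x) (m * (N - x))) • (f 0 ^ (m * (N - x)) * (v ^ d) ^ x)))
        (ι (f 0) ^ (m * N))⁻¹).symm.trans h2
      refine Eq.trans ?_ h3
      show Polynomial.eval₂ (algebraMap k L) _ Q = _
      rw [Polynomial.eval₂_finsetSum]
      refine Finset.sum_congr rfl fun i hi => ?_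
      have hiN := Finset.mem_range_succ_iff.1 hi
      rw [← div_eq_mul_inv, Polynomial.eval₂_monomial, map_smul, Algebra.smul_def, map_mul, map_pow, map_pow, map_pow, div_pow, ← pow_mul,
        ← pow_mul, show m * N = m * (N - i) + m * i by rw [← Nat.mul_add, Nat.sub_add_cancel hiN], pow_add,
        mul_div_assoc, mul_div_mul_left _ _ (pow_ne_zero _ hι0)]
  have hι0 : ι (f 0) ≠ 0 := fun e => hf0 (hι (e.trans (map_zero ι).symm))
  have hxy : IsIntegral k (ι y / ι x) := by
    have hconst : ∀ v ∈ 𝒜 (m : ℤ), ∃ c : k, ι v ^ d = algebraMap k L c * ι (f 0) ^ m := fun v hv => by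
      have hd1 := IsAlgClosed.degree_eq_one_of_irreducible k (minpoly.irreducible (hint v hv))
      obtain ⟨c, hc⟩ := minpoly.mem_range_of_degree_eq_one k _ hd1
      exact ⟨c, by rw [hc, div_mul_cancel₀ _ (pow_ne_zero _ hι0)]⟩
    obtain ⟨a, ha⟩ := hconst x hx
    obtain ⟨b, hb⟩ := hconst y hy
    refine IsIntegral.of_pow hd ?_
    have heq : (ι y / ι x) ^ d = algebraMap k L (b / a) := by
      rw [div_pow, ha, hb, map_div₀, mul_div_mul_right _ _ (pow_ne_zero _ hι0)]
    rw [heq]
    exact isIntegral_algebraMap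
  obtain ⟨c, hc⟩ := minpoly.mem_range_of_degree_eq_one k _
    (IsAlgClosed.degree_eq_one_of_irreducible k (minpoly.irreducible hxy))
  refine ⟨c, hι ?_⟩
  rw [map_smul, Algebra.smul_def, hc, div_mul_cancel₀ _ fun e => hx0 (hι (e.trans (map_zero ι).symm))]

include hpos h0 h1 in
/-- A one dimensional graded domain over an algebraically closed field is a semigroup ring. -/
theorem exists_semigroup : ∃ H : AddSubmonoid ℕ, Nonempty (R ≃+* AddMonoidAlgebra k H) := by
  classical
  let H : AddSubmonoid ℕ :=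
    { carrier := {n | ∃ v ∈ 𝒜 (n : ℤ), v ≠ 0}
      zero_mem' := ⟨1, SetLike.one_mem_graded 𝒜, one_ne_zero⟩
      add_mem' := fun {a b} ⟨v, hv, hv0⟩ ⟨w, hw, hw0⟩ =>
        ⟨v * w, by push_cast; exact SetLike.mul_mem_graded hv hw, mul_ne_zero hv0 hw0⟩ }
  let L := FractionRing R
  let ι : R →ₐ[k] L := IsScalarTower.toAlgHom k R L
  have hι : Function.Injective ι := IsFractionRing.injective R L
  have hιne : ∀ {v : R}, v ≠ 0 → ι v ≠ 0 := fun hv e => hv (hι (e.trans (map_zero ι).symm))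
  let G : AddSubgroup ℤ :=
    { carrier := {z | ∃ i j : ℤ, ∃ a ∈ 𝒜 i, ∃ b ∈ 𝒜 j, a ≠ 0 ∧ b ≠ 0 ∧ z = i - j}
      zero_mem' := ⟨0, 0, 1, SetLike.one_mem_graded 𝒜, 1, SetLike.one_mem_graded 𝒜, one_ne_zero, one_ne_zero, by ring⟩
      add_mem' := fun {z z'} ⟨i, j, a, ha, b, hb, ha0, hb0, hz⟩ ⟨i', j', a', ha', b', hb', ha0', hb0', hz'⟩ =>
        ⟨i + i', j + j', a * a', SetLike.mul_mem_graded ha ha', b * b', SetLike.mul_mem_graded hb hb',
          mul_ne_zero ha0 ha0', mul_ne_zero hb0 hb0', by omega⟩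
      neg_mem' := fun {z} ⟨i, j, a, ha, b, hb, ha0, hb0, hz⟩ => ⟨j, i, b, hb, a, ha, hb0, ha0, by omega⟩ }
  obtain ⟨g, hg⟩ := Int.subgroup_cyclic G
  obtain ⟨p₁, p₂, a, ha, b, hb, ha0, hb0, hgab⟩ : g ∈ G := hg ▸ AddSubgroup.subset_closure (Set.mem_singleton g)
  let τ : L := ι a / ι b
  have hτ : τ ≠ 0 := div_ne_zero (hιne ha0) (hιne hb0)
  -- every piece contains the power of `τ` of its degree
  have hex : ∀ n : H, ∃ (q : ℤ) (v : R), v ∈ 𝒜 ((n : ℕ) : ℤ) ∧ v ≠ 0 ∧ q * g = ((n : ℕ) : ℤ) ∧ ι v = τ ^ q := by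
    rintro ⟨n, v, hv, hv0⟩
    have hn : (n : ℤ) ∈ G := ⟨n, 0, v, hv, 1, SetLike.one_mem_graded 𝒜, hv0, one_ne_zero, by ring⟩
    rw [hg, AddSubgroup.mem_closure_singleton] at hn
    obtain ⟨q, hq⟩ := hn
    rw [smul_eq_mul] at hq
    refine ⟨q, ?_⟩
    rcases Int.eq_nat_or_neg q with ⟨j, rfl | rfl⟩
    · have h1' : v * b ^ j ∈ 𝒜 ((n : ℤ) + (j : ℤ) * p₂) := by
        have := SetLike.mul_mem_graded hv (SetLike.pow_mem_graded j hb)
        rwa [nsmul_eq_mul] at this
      have h2' : a ^ j ∈ 𝒜 ((n : ℤ) + (j : ℤ) * p₂) := by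
        have := SetLike.pow_mem_graded j ha
        rwa [nsmul_eq_mul, show ((j : ℤ) * p₁) = (n : ℤ) + (j : ℤ) * p₂ by rw [← hq, hgab]; ring] at this
      obtain ⟨c, hc⟩ := exists_smul_eq hpos h0 h1 h1' (mul_ne_zero hv0 (pow_ne_zero _ hb0)) h2'
      refine ⟨c • v, Submodule.smul_mem _ c hv, fun e => ?_, hq, ?_⟩
      · rw [← smul_mul_assoc, e, zero_mul] at hc
        exact pow_ne_zero _ ha0 hc
      · rw [zpow_natCast, div_pow, eq_div_iff (pow_ne_zero _ (hιne hb0)), ← map_pow, ← map_pow, ← map_mul,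
          smul_mul_assoc, ← hc]
    · have h1' : v * a ^ j ∈ 𝒜 ((n : ℤ) + (j : ℤ) * p₁) := by
        have := SetLike.mul_mem_graded hv (SetLike.pow_mem_graded j ha)
        rwa [nsmul_eq_mul] at this
      have h2' : b ^ j ∈ 𝒜 ((n : ℤ) + (j : ℤ) * p₁) := by
        have := SetLike.pow_mem_graded j hb
        rwa [nsmul_eq_mul, show ((j : ℤ) * p₂) = (n : ℤ) + (j : ℤ) * p₁ by rw [← hq, hgab]; ring] at this
      obtain ⟨c, hc⟩ := exists_smul_eq hpos h0 h1 h1' (mul_ne_zero hv0 (pow_ne_zero _ ha0)) h2'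
      refine ⟨c • v, Submodule.smul_mem _ c hv, fun e => ?_, hq, ?_⟩
      · rw [← smul_mul_assoc, e, zero_mul] at hc
        exact pow_ne_zero _ hb0 hc
      · rw [zpow_neg, zpow_natCast, div_pow, inv_div, eq_div_iff (pow_ne_zero _ (hιne ha0)), ← map_pow, ← map_pow,
          ← map_mul, smul_mul_assoc, ← hc]
  choose q e heA he0 hq hee using hex
  have huniq : ∀ (n : H) (r : ℤ), r * g = ((n : ℕ) : ℤ) → τ ^ r = τ ^ q n := fun n r hr => by
    rcases eq_or_ne g 0 with hg0 | hg0
    · -- all degrees are zero, contradicting the dimension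
      exfalso
      obtain ⟨d, hd, hsop⟩ := H4Segre.exists_sop 𝒜 hpos h0 0 ⊥ (Ideal.IsHomogeneous.bot 𝒜) bot_ne_top (by
        refine (le_of_eq (ringKrullDim_eq_of_ringEquiv (RingEquiv.quotientBot R))).trans ?_
        have hzero : Ring.KrullDimLE 0 R := Ring.krullDimLE_zero_iff.2 fun P hP => by
          haveI := H4Segre.isMaximal_irr 𝒜 hpos h0
          have hle : H4Segre.irr 𝒜 ≤ P := Ideal.span_le.2 fun x hx => by
            obtain ⟨i, hi, hx⟩ := Set.mem_iUnion₂.1 hx
            by_contra hxP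
            have hmem : i ∈ G := ⟨i, 0, x, hx, 1, SetLike.one_mem_graded 𝒜, fun e => hxP (e ▸ P.zero_mem),
              one_ne_zero, by ring⟩
            rw [hg, AddSubgroup.mem_closure_singleton, hg0] at hmem
            obtain ⟨z, hz⟩ := hmem
            rw [smul_zero] at hz
            exact absurd hz (ne_of_lt (hi : (0 : ℤ) < i))
          exact (Ideal.IsMaximal.eq_of_le inferInstance hP.ne_top hle) ▸ inferInstance
        exact hzero.1)
      obtain ⟨fe, -, hfin⟩ := hsop 1 one_pos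
      haveI : IsEmpty (Fin 0) := inferInstance
      have hle : ringKrullDim R ≤ (0 : ℕ) := by
        refine (le_of_eq (ringKrullDim_eq_of_ringEquiv (RingEquiv.quotientBot R)).symm).trans ?_
        let gq := (Ideal.Quotient.mkₐ k (⊥ : Ideal R)).comp (MvPolynomial.aeval fe)
        letI : Algebra (MvPolynomial (Fin 0) k) (R ⧸ (⊥ : Ideal R)) := gq.toRingHom.toAlgebra
        haveI : Algebra.IsIntegral (MvPolynomial (Fin 0) k) (R ⧸ (⊥ : Ideal R)) := ⟨hfin.to_isIntegral⟩
        refine (Order.krullDim_le_of_strictMono (PrimeSpectrum.comap (algebraMap (MvPolynomial (Fin 0) k) (R ⧸ (⊥ : Ideal R))))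
          (fun _ _ hlt => Ideal.IsIntegral.comap_lt_comap hlt)).trans ?_
        show ringKrullDim (MvPolynomial (Fin 0) k) ≤ _
        rw [MvPolynomial.ringKrullDim_of_isNoetherianRing, ringKrullDim_eq_zero_of_field, zero_add, Nat.card_fin]
      rw [h1] at hle
      exact absurd hle (by norm_cast)
    · rw [mul_right_cancel₀ hg0 (hr.trans (hq n).symm)]
  let φ : Multiplicative H →* R :=
    { toFun := fun n => e (Multiplicative.toAdd n)
      map_one' := hι (by
        rw [map_one ι, show Multiplicative.toAdd (1 : Multiplicative H) = 0 from rfl, hee,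
          ← huniq 0 0 (by simp), zpow_zero])
      map_mul' := fun i j => hι (by
        rw [map_mul ι, hee, hee, show Multiplicative.toAdd (i * j) = Multiplicative.toAdd i + Multiplicative.toAdd j from rfl,
          hee, ← huniq (_ + _) (q (Multiplicative.toAdd i) + q (Multiplicative.toAdd j))
            (by rw [add_mul, hq, hq, AddSubmonoid.coe_add, Nat.cast_add]), zpow_add₀ hτ]) }
  let deg : H →+ ℤ := (Nat.castAddMonoidHom ℤ).comp H.subtype
  have hbij := bijective_lift (𝒜 := 𝒜) deg (fun i j h => Subtype.ext (Int.ofNat_injective h)) φ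
    (fun i => heA i) (fun i => he0 i) (fun n v hv hv0 => ?_)
  · exact ⟨H, ⟨(AlgEquiv.ofBijective _ hbij).symm.toRingEquiv⟩⟩
  · rcases H4Segre.eq_zero_or_nonneg 𝒜 hpos hv with h | hn
    · exact absurd h hv0
    obtain ⟨m, rfl⟩ : ∃ m : ℕ, n = m := ⟨n.toNat, (Int.toNat_of_nonneg hn).symm⟩
    exact ⟨⟨m, v, hv, hv0⟩, rfl, exists_smul_eq hpos h0 h1 (heA _) (he0 _) hv⟩

include hpos h0 h1 in
theorem nonempty_polynomial
    (hstd : Ideal.span (⋃ n ∈ Set.Ioi (0 : ℤ), (𝒜 n : Set R)) = Ideal.span ((𝒜 1 : Submodule k R) : Set R)) :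
    Nonempty (R ≃+* Polynomial k) := by
  classical
  obtain ⟨y, hy, hy0⟩ : ∃ y ∈ 𝒜 1, y ≠ 0 := by
    by_contra h
    push Not at h
    haveI := H4Segre.isMaximal_irr 𝒜 hpos h0
    have hirr : H4Segre.irr 𝒜 = ⊥ := by
      rw [show H4Segre.irr 𝒜 = Ideal.span ((𝒜 1 : Submodule k R) : Set R) from hstd, Ideal.span_eq_bot]
      exact h
    have hf : IsField R := by
      haveI : (⊥ : Ideal R).IsMaximal := hirr ▸ inferInstance
      exact (RingEquiv.quotientBot R).symm.toMulEquiv.isField ((Ideal.Quotient.maximal_ideal_iff_isField_quotient _).1 inferInstance)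
    rw [ringKrullDim_eq_zero_of_isField hf] at h1
    exact zero_ne_one h1
  have hpow : ∀ t : ℕ, y ^ t ∈ 𝒜 (t : ℤ) := fun t => by
    have := SetLike.pow_mem_graded t hy
    rwa [nsmul_one] at this
  have hbij := bijective_lift (𝒜 := 𝒜) (Nat.castAddMonoidHom ℤ) Int.ofNat_injective (powersHom R y)
    (fun i => by simpa using hpow i) (fun i => by simpa using pow_ne_zero i hy0) (fun n v hv hv0 => ?_)
  · exact ⟨(AlgEquiv.ofBijective _ hbij).symm.toRingEquiv.trans (Polynomial.toFinsuppIso k).symm⟩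
  · rcases H4Segre.eq_zero_or_nonneg 𝒜 hpos hv with h | hn
    · exact absurd h hv0
    obtain ⟨m, rfl⟩ : ∃ m : ℕ, n = m := ⟨n.toNat, (Int.toNat_of_nonneg hn).symm⟩
    obtain ⟨c, hc⟩ := exists_smul_eq hpos h0 h1 (hpow m) (pow_ne_zero m hy0) hv
    exact ⟨m, rfl, c, by simpa using hc⟩

end Groth.Agent.H4DimOne
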